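import Groth.Agent.AlgSpTopInv.Section
import Groth.Agent.AlgSpLib.EtLift
import Groth.Agent.AlgSpDec.Glue
import Groth.Agent.EtFound.IntegralSplit

/-!
# Etale spaces descend along universal homeomorphisms
-/

set_option backward.isDefEq.respectTransparency false
set_option backward.isDefEq.respectTransparency.types false

universe u

open CategoryTheory CategoryTheory.Limits AlgebraicGeometry Opposite AlgSp

namespace Groth.Agent.AlgSpTopInv

open Groth.Agent.AlgSpLib Groth.Agent.AlgSpPts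

variable {S : Scheme.{u}}

/-- Morphisms are defined on the members of a disjoint open cover. -/
theorem exists_hom_of_disjoint_opens {F : Sp S} {W : Over S} {ι : Type u} (T : ι → Over S)
    (j : ∀ i, T i ⟶ W) (hj : ∀ i, IsOpenImmersion (j i).left)
    (hd : ∀ i i' v v', (j i).left v = (j i').left v' → i = i')
    (hc : ∀ w, ∃ i v, (j i).left v = w) (g : ∀ i, (yon S).obj (T i) ⟶ F) :
    ∃ G : (yon S).obj W ⟶ F, ∀ i, (yon S).map (j i) ≫ G = g i := by
  let 𝒰 : W.left.OpenCover := Scheme.Cover.mkOfCovers ι (fun i => (T i).left) (fun i => (j i).left)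
    hc hj
  have hR : Sieve.ofArrows _ j ∈ J S W := by
    refine AlgSpDec.mem_J_of_openCover 𝒰 _ fun i => ?_
    let e : Over.mk (𝒰.f i ≫ W.hom) ⟶ T i :=
      CategoryTheory.Over.homMk (𝟙 (T i).left) (by
        change 𝟙 _ ≫ (T i).hom = (j i).left ≫ W.hom
        rw [Category.id_comp, Over.w])
    convert (Sieve.ofArrows _ j).downward_closed (Sieve.ofArrows_mk _ _ i) e using 1
    apply Over.OverMorphism.ext
    change 𝒰.f i = 𝟙 _ ≫ (j i).left
    rw [Category.id_comp]
    rfl
  have hs : Presieve.IsSheafFor F.obj (Presieve.ofArrows _ j) :=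
    (Presieve.isSheafFor_iff_generate _).2 (((isSheaf_iff_isSheaf_of_type _ _).1 F.property) _ hR)
  obtain ⟨t, ht, -⟩ := (Presieve.isSheafFor_arrows_iff _ _).1 hs
    (fun i => (J S).uliftYonedaEquiv (g i)) (fun i i' Z a b hab => by
      rw [AlgSpLib.uliftYonedaEquiv_precomp, AlgSpLib.uliftYonedaEquiv_precomp]
      congr 1
      by_cases h : i = i'
      · subst h
        have := hj i
        have : Mono (j i) := (Over.forget S).mono_of_mono_map (inferInstanceAs (Mono (j i).left))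
        rw [(cancel_mono (j i)).1 hab]
      · have : IsEmpty ↥Z.left := ⟨fun z => h (hd i i' (a.left z) (b.left z) (by
          rw [← Scheme.Hom.comp_apply, ← Scheme.Hom.comp_apply, ← Over.comp_left, ← Over.comp_left, hab]))⟩
        exact AlgSpDec.hom_ext_of_isEmpty _ _)
  refine ⟨(J S).uliftYonedaEquiv.symm t, fun i => (J S).uliftYonedaEquiv.injective ?_⟩
  rw [← AlgSpLib.uliftYonedaEquiv_precomp, Equiv.apply_symm_apply, ht]

/-- Etale charts of `V` come by base change from charts of the base. -/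
theorem exists_chart_from_base {X Y V : Sp S} (hX : IsAlgSpace X) (hY : IsAlgSpace Y) (hV : IsAlgSpace V)
    {f : X ⟶ Y} (hi : RepWith @IsIntegralHom f) (hu : RepWith @UniversallyInjective f)
    (hs : RepWith @Surjective f) (b : V ⟶ X) (hb : LocP @Etale b) :
    ∃ (W' W : Over S) (a' : (yon S).obj W' ⟶ Y) (xW : (yon S).obj W ⟶ X) (γ : W ⟶ W')
      (g : (yon S).obj W ⟶ V), RepWith @Etale a' ∧ IsPullback xW ((yon S).map γ) f a' ∧
        g ≫ b = xW ∧ RepWith @Etale g ∧ RepWith @Surjective g := by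
  obtain ⟨V₀, q, hq, hqs⟩ := hY.atlas
  let X₀ := hi.rep.pullback q
  let c₀ : X₀ ⟶ V₀ := hi.rep.snd q
  let x₀ : (yon S).obj X₀ ⟶ X := hi.rep.fst q
  have sq₀ : IsPullback x₀ ((yon S).map c₀) f q := hi.rep.isPullback q
  have : IsIntegralHom c₀.left := hi.property_snd q
  have : UniversallyInjective c₀.left := hu.property _ _ _ sq₀
  have : Surjective c₀.left := hs.property _ _ _ sq₀
  have hx₀ : RepWith @Etale x₀ := repWith_of_isPullback sq₀.flip hq
  have hx₀s : RepWith @Surjective x₀ := repWith_of_isPullback sq₀.flip hqs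
  obtain ⟨U₀, a₀, u₀, ha₀, ha₀s, hu₀⟩ := exists_chart_over hV hX b x₀
  let aV := a₀ ≫ pullback.fst b x₀
  have haV : RepWith @Etale aV := repWith_comp ha₀ (repWith_fst b hx₀)
  have haVs : RepWith @Surjective aV := repWith_comp ha₀s (repWith_fst b hx₀s)
  have haVb : aV ≫ b = (yon S).map u₀ ≫ x₀ := by
    rw [Category.assoc, pullback.condition, ← Category.assoc, hu₀]
  have : Etale u₀.left := hb aV x₀ u₀ haV hx₀ haVb
  choose T₀ v hv z hz h hh hmem using fun w : ↥U₀.left =>
    EtFound.exists_split c₀.left u₀.left (c₀.left (u₀.left w))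
      (fun x hx => ⟨w, (c₀.left.injective hx).symm⟩) w rfl
  let T : ↥U₀.left → Over S := fun w => Over.mk (v w ≫ V₀.hom)
  let τ : ∀ w, T w ⟶ V₀ := fun w => Over.homMk (v w) rfl
  let W' := AlgSpDec.sigmaOver T
  let w' : W' ⟶ V₀ := Over.homMk (Sigma.desc fun w => v w) (by
    apply Sigma.hom_ext
    intro i
    change Sigma.ι _ i ≫ Sigma.desc _ ≫ V₀.hom = Sigma.ι _ i ≫ Sigma.desc _
    rw [Sigma.ι_desc_assoc, Sigma.ι_desc]
    rfl)
  have hιw : ∀ i, AlgSpDec.sigmaι T i ≫ w' = τ i := fun i => Over.OverMorphism.ext (Sigma.ι_desc _ i)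
  have hw' : Etale w'.left := by
    refine IsZariskiLocalAtSource.of_openCover (sigmaOpenCover fun i => (T i).left) fun i => ?_
    change Etale (Sigma.ι (fun i => (T i).left) i ≫ Sigma.desc _)
    rw [Sigma.ι_desc]
    exact hv i
  let W := pullback c₀ w'
  let p₁ : W ⟶ X₀ := pullback.fst c₀ w'
  let γ : W ⟶ W' := pullback.snd c₀ w'
  have sqW : IsPullback ((yon S).map p₁ ≫ x₀) ((yon S).map γ) f ((yon S).map w' ≫ q) :=
    ((IsPullback.of_hasPullback c₀ w').flip.map (yon S)).flip.paste_horiz sq₀ |>.flip.flip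
  let P : ↥U₀.left → Over S := fun i => pullback c₀ (τ i)
  let j : ∀ i, P i ⟶ W := fun i =>
    pullback.lift (pullback.fst _ _) (pullback.snd _ _ ≫ AlgSpDec.sigmaι T i)
      (by rw [Category.assoc, hιw, pullback.condition])
  have sqj : ∀ i, IsPullback (j i) (pullback.snd c₀ (τ i)) γ (AlgSpDec.sigmaι T i) := fun i => by
    refine IsPullback.of_right ?_ (pullback.lift_snd _ _ _) (IsPullback.of_hasPullback c₀ w')
    rw [pullback.lift_fst, hιw]
    exact IsPullback.of_hasPullback c₀ (τ i)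
  have sqj' : ∀ i, IsPullback (j i).left (pullback.snd c₀ (τ i)).left γ.left (AlgSpDec.sigmaι T i).left :=
    fun i => (sqj i).map (Over.forget S)
  have hjo : ∀ i, IsOpenImmersion (j i).left := fun i =>
    MorphismProperty.of_isPullback (P := @IsOpenImmersion) (sqj' i).flip inferInstance
  have hd : ∀ i i' p p', (j i).left p = (j i').left p' → i = i' := fun i i' p p' e => by
    refine AlgSpDec.sigmaι_injective T (v := (pullback.snd c₀ (τ i)).left p)
      (w := (pullback.snd c₀ (τ i')).left p') ?_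
    rw [← Scheme.Hom.comp_apply, ← Scheme.Hom.comp_apply, ← (sqj' i).w, ← (sqj' i').w,
      Scheme.Hom.comp_apply, Scheme.Hom.comp_apply, e]
  have hc : ∀ w, ∃ i p, (j i).left p = w := fun w => by
    obtain ⟨i, t, ht⟩ := AlgSpDec.exists_sigmaι T (γ.left w)
    obtain ⟨q, hq₁, -⟩ := Scheme.Pullback.exists_preimage_pullback
      (f := γ.left) (g := (AlgSpDec.sigmaι T i).left) w t ht.symm
    refine ⟨i, (sqj' i).isoPullback.inv q, ?_⟩
    rw [← Scheme.Hom.comp_apply, IsPullback.isoPullback_inv_fst, hq₁]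
  have sqP : ∀ i, IsPullback (pullback.fst c₀ (τ i)).left (pullback.snd c₀ (τ i)).left c₀.left (v i) :=
    fun i => (IsPullback.of_hasPullback c₀ (τ i)).map (Over.forget S)
  let l : ∀ i, P i ⟶ U₀ := fun i => Over.homMk ((sqP i).isoPullback.hom ≫ h i) (by
    rw [Category.assoc, ← Over.w u₀, ← Category.assoc (h i), hh i, ← Category.assoc,
      IsPullback.isoPullback_hom_fst, Over.w])
  have hl : ∀ i, l i ≫ u₀ = pullback.fst c₀ (τ i) := fun i => Over.OverMorphism.ext (by
    show ((sqP i).isoPullback.hom ≫ h i) ≫ u₀.left = _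
    rw [Category.assoc, hh i, IsPullback.isoPullback_hom_fst])
  obtain ⟨g, hg⟩ := exists_hom_of_disjoint_opens P j hjo hd hc fun i => (yon S).map (l i) ≫ aV
  have hgb : g ≫ b = (yon S).map p₁ ≫ x₀ := by
    obtain ⟨G, hG⟩ := exists_hom_of_disjoint_opens P j hjo hd hc fun i => (yon S).map (j i) ≫ g ≫ b
    have hj' : ∀ i, (yon S).map (j i) ≫ g ≫ b = (yon S).map (j i) ≫ (yon S).map p₁ ≫ x₀ := fun i => by
      rw [← Category.assoc, hg, Category.assoc, haVb, ← Category.assoc, ← Functor.map_comp, hl,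
        ← Category.assoc, ← Functor.map_comp, pullback.lift_fst]
    refine AlgSpLib.hom_ext_of_covering _ _ (R := Sieve.ofArrows _ j) ?_ fun T' φ hφ => ?_
    · let 𝒰 : W.left.OpenCover := Scheme.Cover.mkOfCovers _ (fun i => (P i).left) (fun i => (j i).left)
        hc hjo
      refine AlgSpDec.mem_J_of_openCover 𝒰 _ fun i => ?_
      convert (Sieve.ofArrows _ j).downward_closed (Sieve.ofArrows_mk _ _ i)
        (CategoryTheory.Over.homMk (U := Over.mk (𝒰.f i ≫ W.hom)) (𝟙 (P i).left)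
          ((Category.id_comp _).trans (Over.w (j i)).symm)) using 1
      exact Over.OverMorphism.ext (Category.id_comp _).symm
    · obtain ⟨i, k, rfl⟩ := (Sieve.mem_ofArrows_iff _ _ φ).1 hφ
      rw [Functor.map_comp, Category.assoc, Category.assoc, hj']
  have ha' : RepWith @Etale ((yon S).map w' ≫ q) := repWith_comp ((repWith_yon_map_iff _ _).2 hw') hq
  have hxW : RepWith @Etale ((yon S).map p₁ ≫ x₀) := repWith_of_isPullback sqW.flip ha'
  have hge : RepWith @Etale g := by
    have hgE : IsEtaleMor g := isEtaleMor_of_comp (IsAlgSpace.yon_obj W) hV hX (f := g) (g := b)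
      (hgb ▸ (isEtaleMor_iff_locP (IsAlgSpace.yon_obj W) hX _).2 (locP_of_repWith hxW))
      ((isEtaleMor_iff_locP hV hX b).2 hb)
    simpa using hgE (𝟙 _) (repWith_id _ W)
  refine ⟨W', W, (yon S).map w' ≫ q, (yon S).map p₁ ≫ x₀, γ, g, ha', sqW, hgb, hge,
    repWith_surjective_of_surjective hge.rep fun y => ?_⟩
  obtain ⟨u, rfl⟩ := surjective_ofPt haVs y
  obtain ⟨p', hp'⟩ := hmem u
  obtain ⟨p, hp⟩ := (sqP u).isoPullback.hom.surjective p'
  refine ⟨Points.ofPt ((yon S).map (j u)) p, ?_⟩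
  rw [Points.map_ofPt, hg, ofPt_comp]
  congr 1
  show ((sqP u).isoPullback.hom ≫ h u) p = u
  rw [Scheme.Hom.comp_apply, hp, hp']

/-- Etale spaces over the source of a universal homeomorphism come from the target. -/
theorem exists_descent {X Y V : Sp S} (hX : IsAlgSpace X) (hY : IsAlgSpace Y) (hV : IsAlgSpace V)
    {f : X ⟶ Y} (hi : RepWith @IsIntegralHom f) (hu : RepWith @UniversallyInjective f)
    (hs : RepWith @Surjective f) (hf : RepWith FlatMor.IsUnivHomeo f) (b : V ⟶ X) (hb : LocP @Etale b) :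
    ∃ (V' : Sp S) (a : V' ⟶ Y) (c : V ⟶ V'),
      IsAlgSpace V' ∧ IsEtaleMor a ∧ IsPullback b c f a := by
  obtain ⟨W', W, a', xW, γ, g, ha', sqW, hgb, hge, hgs⟩ := exists_chart_from_base hX hY hV hi hu hs b hb
  let P := ha'.rep.pullback a'
  let t' : P ⟶ W' := ha'.rep.fst' a'
  let s' : P ⟶ W' := ha'.rep.snd a'
  have sqP : IsPullback ((yon S).map t') ((yon S).map s') a' a' := ha'.rep.isPullback' a'
  have : Etale s'.left := ha'.property _ _ _ sqP
  have : Etale t'.left := ha'.property _ _ _ sqP.flip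
  let m₀ := (yon S).map t' ≫ a'
  let PX := pullback f m₀
  have hPX : IsAlgSpace PX := isAlgSpace_pullback hX (IsAlgSpace.yon_obj P) hY f m₀
  let q₁ : PX ⟶ (yon S).obj W := sqW.lift (pullback.fst f m₀) (pullback.snd f m₀ ≫ (yon S).map t')
    (by rw [pullback.condition, Category.assoc])
  let q₂ : PX ⟶ (yon S).obj W := sqW.lift (pullback.fst f m₀) (pullback.snd f m₀ ≫ (yon S).map s')
    (by rw [pullback.condition, Category.assoc, ← sqP.w])
  have hVV : IsAlgSpace (pullback b b) := isAlgSpace_pullback hV hV hX b b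
  let d : PX ⟶ pullback b b := pullback.lift (q₁ ≫ g) (q₂ ≫ g)
    (by simp [q₁, q₂, hgb])
  have hdiag : RepWith @IsOpenImmersion (pullback.diagonal b) := by
    have : Mono (pullback.diagonal b) := mono_of_mono_fac (pullback.diagonal_fst b)
    refine repWith_isOpenImmersion_of_mono_of_etale hV hVV _ (locP_etale_of_isEtaleMor
      (isEtaleMor_of_comp hV hVV hV (f := pullback.diagonal b) (g := pullback.snd b b)
        (by rw [pullback.diagonal_snd]; exact isEtaleMor_of_isIso (𝟙 V))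
        ((isEtaleMor_iff_locP hVV hV _).2 (locP_of_isPullback (IsPullback.of_hasPullback b b) hV hX hV hb))))
  have hE : RepWith @IsOpenImmersion (pullback.snd (pullback.diagonal b) d) := repWith_snd d hdiag
  have hEsp : IsAlgSpace (pullback (pullback.diagonal b) d) := isAlgSpace_pullback hV hPX hVV _ _
  let Ω : Set (Points PX) := Set.range (Points.map (pullback.snd (pullback.diagonal b) d))
  have hΩ : IsOpen Ω := (isOpenMap_map (repWith_mono (P := @IsOpenImmersion) (Q := @UniversallyOpen)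
    (fun _ _ f (_ : IsOpenImmersion f) => inferInstanceAs (UniversallyOpen f)) _ hE)).isOpen_range
  have hh : IsHomeomorph (Points.map (pullback.snd f m₀)) := isHomeomorph_map (repWith_snd m₀ hf)
  let O : P.left.Opens := ⟨Points.ofPt (𝟙 ((yon S).obj P)) ⁻¹' (Points.map (pullback.snd f m₀) '' Ω),
    (hh.isOpenMap _ hΩ).preimage (Points.continuous_ofPt _)⟩
  -- the relation is where the two maps to `V` agree after base change
  have hin : ∀ {T : Over S} (m : T ⟶ P) (ℓ : (yon S).obj T ⟶ PX), ℓ ≫ pullback.snd f m₀ = (yon S).map m →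
      ℓ ≫ q₁ ≫ g = ℓ ≫ q₂ ≫ g → ∀ v, m.left v ∈ O := fun {T} m ℓ hℓ he v => by
    let e : (yon S).obj T ⟶ pullback (pullback.diagonal b) d :=
      pullback.lift (ℓ ≫ q₁ ≫ g) ℓ (by apply pullback.hom_ext <;> simp [d, he])
    refine ⟨Points.ofPt ℓ v, ⟨Points.ofPt e v, by rw [Points.map_ofPt, pullback.lift_snd]⟩, ?_⟩
    rw [Points.map_ofPt, hℓ, ← ofPt_comp, Category.comp_id]
  have hout : ∀ {T : Over S} (m : T ⟶ P), (∀ v, m.left v ∈ O) → ∀ {Z : Sp S}, IsAlgSpace Z →
      ∀ (ℓ : Z ⟶ PX) (z : Z ⟶ (yon S).obj T), ℓ ≫ pullback.snd f m₀ = z ≫ (yon S).map m →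
        ℓ ≫ q₁ ≫ g = ℓ ≫ q₂ ≫ g := fun {T} m hm {Z} hZ ℓ z hℓ => by
    have := AlgSpDec.mono_of_openImmersion hE
    obtain ⟨ℓ₀, rfl⟩ := exists_lift_openImmersion hZ hEsp hPX hE ℓ (by
      rintro _ ⟨x, rfl⟩
      obtain ⟨T₁, k, v₁, -, hv₁⟩ := exists_ofPt_eq (Points.map z x)
      obtain ⟨k, rfl⟩ := (yon S).map_surjective k
      obtain ⟨w, hw, hw'⟩ := hm (k.left v₁)
      suffices e : w = Points.map ℓ x from e ▸ hw
      apply hh.injective
      refine hw'.trans ?_
      rw [← Points.map_comp, hℓ, Points.map_comp, ← hv₁, Points.map_ofPt, ← Functor.map_comp,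
        show (yon S).map (k ≫ m) = (yon S).map (k ≫ m) ≫ 𝟙 _ from (Category.comp_id _).symm, ofPt_comp,
        Over.comp_left, Scheme.Hom.comp_apply])
    have hc := congrArg (· ≫ pullback.fst b b) (pullback.condition (f := pullback.diagonal b) (g := d))
    have hc' := congrArg (· ≫ pullback.snd b b) (pullback.condition (f := pullback.diagonal b) (g := d))
    simp only [d, Category.assoc, pullback.diagonal_fst, pullback.diagonal_snd, pullback.lift_fst,
      pullback.lift_snd, Category.comp_id] at hc hc'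
    rw [Category.assoc, Category.assoc, ← hc, ← hc']
  let Rel : ∀ T : Over S, (T ⟶ W') → (T ⟶ W') → Prop := fun T x y =>
    (yon S).map x ≫ a' = (yon S).map y ≫ a' ∧ ∀ (Z : Sp S), IsAlgSpace Z → ∀ (z : Z ⟶ (yon S).obj T)
      (p : Z ⟶ X) (α β : Z ⟶ (yon S).obj W), α ≫ xW = p → β ≫ xW = p →
        α ≫ (yon S).map γ = z ≫ (yon S).map x → β ≫ (yon S).map γ = z ≫ (yon S).map y → α ≫ g = β ≫ g
  let R' : Over S := Over.mk (O.ι ≫ P.hom)
  let ι : R' ⟶ P := Over.homMk O.ι rfl
  let t : R' ⟶ W' := ι ≫ t'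
  let s : R' ⟶ W' := ι ≫ s'
  have hιmem : ∀ {T : Over S} (y : T ⟶ R') v, (y ≫ ι).left v ∈ O := fun y v => by
    rw [Over.comp_left, Scheme.Hom.comp_apply]
    exact (y.left v).2
  have hextP : ∀ {T : Over S} {x y : T ⟶ P}, x ≫ t' = y ≫ t' → x ≫ s' = y ≫ s' → x = y := fun h1 h2 =>
    (yon S).map_injective (sqP.hom_ext (by rw [← Functor.map_comp, ← Functor.map_comp, h1])
      (by rw [← Functor.map_comp, ← Functor.map_comp, h2]))
  have hfac : ∀ {T : Over S} (x y : T ⟶ W'), Rel T x y → ∃ r : T ⟶ R', r ≫ t = x ∧ r ≫ s = y := by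
    intro T x y hxy
    obtain ⟨m, hm₁, hm₂⟩ := exists_pair_lift sqP x y hxy.1
    obtain ⟨r, hr⟩ := EtLift.exists_factor_open O m fun v => by
      let nT := (yon S).map m ≫ m₀
      let ℓ : pullback f nT ⟶ PX := pullback.lift (pullback.fst f nT) (pullback.snd f nT ≫ (yon S).map m)
        (by rw [Category.assoc, pullback.condition])
      have hTX : IsAlgSpace (pullback f nT) := isAlgSpace_pullback hX (IsAlgSpace.yon_obj T) hY f nT
      obtain ⟨x₁, hx₁⟩ := (isHomeomorph_map (repWith_snd nT hf)).surjective (Points.ofPt (𝟙 _) v)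
      obtain ⟨T₁, k, v₁, -, hv₁⟩ := exists_ofPt_eq x₁
      have he : ℓ ≫ q₁ ≫ g = ℓ ≫ q₂ ≫ g := by
        simpa [Category.assoc] using hxy.2 _ hTX (pullback.snd f nT) (pullback.fst f nT) (ℓ ≫ q₁) (ℓ ≫ q₂)
          (by simp [ℓ, q₁]) (by simp [ℓ, q₂])
          (by simp [ℓ, q₁, ← Functor.map_comp, hm₁]) (by simp [ℓ, q₂, ← Functor.map_comp, hm₂])
      obtain ⟨k', hk'⟩ := (yon S).map_surjective (k ≫ pullback.snd f nT)
      have hkv : k'.left v₁ = v := by
        have : Points.ofPt ((yon S).map k' ≫ 𝟙 _) v₁ = Points.ofPt (𝟙 ((yon S).obj T)) v := by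
          rw [Category.comp_id, hk', ← Points.map_ofPt, hv₁, hx₁]
        rw [ofPt_comp] at this
        exact (Points.schemeHomeo T).injective this
      have := hin (k' ≫ m) (k ≫ ℓ) (by simp [ℓ, Functor.map_comp, hk']) (by simp [he]) v₁
      rwa [Over.comp_left, Scheme.Hom.comp_apply, hkv] at this
    exact ⟨r, by rw [← Category.assoc, hr, hm₁], by rw [← Category.assoc, hr, hm₂]⟩
  have hrel : ∀ {T : Over S} (r : T ⟶ R'), Rel T (r ≫ t) (r ≫ s) := by
    intro T r
    refine ⟨?_, fun Z hZ z p α β hα hβ hα' hβ' => ?_⟩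
    · simp only [t, s, Functor.map_comp, Category.assoc, sqP.w]
    let ℓ : Z ⟶ PX := pullback.lift p (z ≫ (yon S).map (r ≫ ι)) (by
      rw [← hα, Category.assoc, sqW.w, ← Category.assoc, hα']
      simp only [m₀, t, Functor.map_comp, Category.assoc])
    have e1 : ℓ ≫ q₁ = α := sqW.hom_ext (by simp [ℓ, q₁, hα]) (by simp [ℓ, q₁, hα', t])
    have e2 : ℓ ≫ q₂ = β := sqW.hom_ext (by simp [ℓ, q₂, hβ]) (by simp [ℓ, q₂, hβ', s])
    rw [← e1, ← e2, Category.assoc, Category.assoc]
    exact hout (r ≫ ι) (hιmem r) hZ ℓ z (pullback.lift_snd _ _ _)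
  have hR : IsEqvRel s t := by
    refine { injective := fun T x y h1 h2 => ?_, equivalence := fun T => ⟨fun x => ?_, ?_, ?_⟩ }
    · have e : x ≫ ι = y ≫ ι := hextP (by simpa [t] using h1) (by simpa [s] using h2)
      exact Over.OverMorphism.ext ((cancel_mono O.ι).1 (congrArg (fun k => k.left) e))
    · exact hfac x x ⟨rfl, fun Z _ z p α β hα hβ hα' hβ' => by
        rw [sqW.hom_ext (hα.trans hβ.symm) (hα'.trans hβ'.symm)]⟩
    · rintro _ _ ⟨r, rfl, rfl⟩
      exact hfac _ _ ⟨(hrel r).1.symm, fun Z hZ z p α β hα hβ hα' hβ' =>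
        ((hrel r).2 Z hZ z p β α hβ hα hβ' hα').symm⟩
    · rintro _ _ _ ⟨x, rfl, rfl⟩ ⟨y, hy, rfl⟩
      refine hfac _ _ ⟨(hrel x).1.trans ((congrArg (fun k => (yon S).map k ≫ a') hy.symm).trans (hrel y).1),
        fun Z hZ z p α β hα hβ hα' hβ' => ?_⟩
      let μ : Z ⟶ (yon S).obj W := sqW.lift p (z ≫ (yon S).map (x ≫ s)) (by
        rw [Category.assoc, ← (hrel x).1, ← Category.assoc, ← hα', Category.assoc, ← sqW.w, ← Category.assoc, hα])
      exact ((hrel x).2 Z hZ z p α μ hα (sqW.lift_fst _ _ _) hα' (sqW.lift_snd _ _ _)).trans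
        ((hrel y).2 Z hZ z p μ β (sqW.lift_fst _ _ _) hβ
          (by rw [sqW.lift_snd, hy]) hβ')
  have : Etale s.left := inferInstanceAs (Etale (O.ι ≫ s'.left))
  have : Etale t.left := inferInstanceAs (Etale (O.ι ≫ t'.left))
  obtain ⟨π, hπdef⟩ : ∃ π : (yon S).obj W' ⟶ QuotSh.quot Scheme.fppfPrecoverage s t,
      π = AlgSpPts.quotMap s t := ⟨_, rfl⟩
  have sqπ : IsPullback ((yon S).map t) ((yon S).map s) π π := by
    rw [hπdef]
    exact AlgSpPts.isPullback_quotMap hR
  have : Sheaf.IsLocallySurjective π := by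
    rw [hπdef]
    have : Epi (QuotSh.quotπ Scheme.fppfPrecoverage s t) := by
      unfold QuotSh.quotπ
      infer_instance
    exact (CategoryTheory.Sheaf.isLocallySurjective_iff_epi _).2 (epi_comp _ _)
  have hV' : IsAlgSpace (QuotSh.quot Scheme.fppfPrecoverage s t) := AlgSpDec.isAlgSpace_quot hR
  have hπr : Representable π := AlgSpDec.representable_of_kernelPair sqπ
  have hss : Surjective s.left := ⟨fun w => by
    obtain ⟨r, -, hr⟩ := (hR.equivalence W').refl (𝟙 W')
    exact ⟨r.left w, by rw [← Scheme.Hom.comp_apply, ← Over.comp_left, hr]; simp⟩⟩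
  have := AlgSpPts.isLocalAtTarget_fppf (@Etale : MorphismProperty Scheme.{u})
  have := AlgSpPts.isLocalAtTarget_fppf (@Surjective : MorphismProperty Scheme.{u})
  have hπe : RepWith @Etale π :=
    AlgSpPts.repWith_of_locallySurjective hπr _ sqπ @Etale ((repWith_yon_map_iff _ _).2 ‹Etale s.left›)
  have hπs : RepWith @Surjective π :=
    AlgSpPts.repWith_of_locallySurjective hπr _ sqπ @Surjective ((repWith_yon_map_iff _ _).2 hss)
  obtain ⟨a, ha⟩ : ∃ a : QuotSh.quot Scheme.fppfPrecoverage s t ⟶ Y, π ≫ a = a' :=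
    let r := Cofork.IsColimit.desc' (EtLift.isColimitOfAtlas hπe hπs sqπ) a' (by
      simp only [t, s, Functor.map_comp, Category.assoc, sqP.w])
    ⟨r.1, r.2⟩
  have hae : IsEtaleMor a := (isEtaleMor_iff_locP hV' hY a).2 (locP_of_chart hπe hπs ha'
    (show π ≫ a = (yon S).map (𝟙 W') ≫ a' by rw [ha, CategoryTheory.Functor.map_id, Category.id_comp])
    (inferInstanceAs (Etale (𝟙 W'.left))))
  let j : (yon S).obj W ⟶ pullback f a := pullback.lift xW ((yon S).map γ ≫ π)
    (by rw [sqW.w, Category.assoc, ha])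
  have sqj : IsPullback ((yon S).map γ) j π (pullback.snd f a) := by
    refine IsPullback.of_bot (v₂₁ := pullback.fst f a) (v₂₂ := a) (h₃₁ := f) ?_ (pullback.lift_snd _ _ _).symm
      (IsPullback.of_hasPullback f a).flip
    rw [pullback.lift_fst, ha]
    exact sqW.flip
  have hje : RepWith @Etale j := repWith_of_isPullback sqj hπe
  have hjs : RepWith @Surjective j := repWith_of_isPullback sqj hπs
  have key : ∀ {T : Over S} (h₁ h₂ : T ⟶ W),
      (yon S).map h₁ ≫ g = (yon S).map h₂ ≫ g ↔ (yon S).map h₁ ≫ j = (yon S).map h₂ ≫ j := by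
    intro T h₁ h₂
    constructor
    · intro e
      have ex : (yon S).map h₁ ≫ xW = (yon S).map h₂ ≫ xW := by
        rw [← hgb, ← Category.assoc, e, Category.assoc]
      apply pullback.hom_ext
      · simpa [j] using ex
      · have ea : (yon S).map (h₁ ≫ γ) ≫ a' = (yon S).map (h₂ ≫ γ) ≫ a' := by
          simp only [Functor.map_comp, Category.assoc, ← sqW.w, reassoc_of% ex]
        obtain ⟨m, hm₁, hm₂⟩ := exists_pair_lift sqP _ _ ea
        let ℓ : (yon S).obj T ⟶ PX := pullback.lift ((yon S).map h₁ ≫ xW) ((yon S).map m) (by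
          rw [Category.assoc, sqW.w, ← Category.assoc, ← Functor.map_comp, ← hm₁, Functor.map_comp,
            Category.assoc])
        have e1 : ℓ ≫ q₁ = (yon S).map h₁ := sqW.hom_ext (by simp [ℓ, q₁])
          (by simp [ℓ, q₁, ← Functor.map_comp, hm₁])
        have e2 : ℓ ≫ q₂ = (yon S).map h₂ := sqW.hom_ext (by simp [ℓ, q₂, ex])
          (by simp [ℓ, q₂, ← Functor.map_comp, hm₂])
        obtain ⟨r, hr⟩ := EtLift.exists_factor_open O m (hin m ℓ (pullback.lift_snd _ _ _)
          (by rw [← Category.assoc, e1, ← Category.assoc, e2, e]))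
        have hr₁ : r ≫ t = h₁ ≫ γ := by rw [← Category.assoc, hr, hm₁]
        have hr₂ : r ≫ s = h₂ ≫ γ := by rw [← Category.assoc, hr, hm₂]
        simp only [j, Category.assoc, pullback.lift_snd]
        rw [← Category.assoc, ← Category.assoc, ← Functor.map_comp, ← Functor.map_comp, ← hr₁, ← hr₂,
          Functor.map_comp (yon S) r t, Functor.map_comp (yon S) r s, Category.assoc, Category.assoc, sqπ.w]
    · intro e
      have ex : (yon S).map h₁ ≫ xW = (yon S).map h₂ ≫ xW := by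
        simpa [j] using congrArg (· ≫ pullback.fst f a) e
      have eπ : (yon S).map (h₁ ≫ γ) ≫ π = (yon S).map (h₂ ≫ γ) ≫ π := by
        simpa [j, Functor.map_comp] using congrArg (· ≫ pullback.snd f a) e
      obtain ⟨r, hr₁, hr₂⟩ := exists_pair_lift sqπ _ _ eπ
      exact (hrel r).2 _ (IsAlgSpace.yon_obj T) (𝟙 _) _ _ _ rfl ex.symm
        (by rw [hr₁, Category.id_comp, Functor.map_comp]) (by rw [hr₂, Category.id_comp, Functor.map_comp])
  have sqg := hge.rep.isPullback' g
  have sqjj := hje.rep.isPullback' j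
  obtain ⟨u, hu'⟩ : ∃ u : V ⟶ pullback f a, g ≫ u = j :=
    let r := Cofork.IsColimit.desc' (EtLift.isColimitOfAtlas hge hgs sqg) j ((key _ _).1 sqg.w)
    ⟨r.1, r.2⟩
  obtain ⟨w, hw⟩ : ∃ w : pullback f a ⟶ V, j ≫ w = g :=
    let r := Cofork.IsColimit.desc' (EtLift.isColimitOfAtlas hje hjs sqjj) g ((key _ _).2 sqjj.w)
    ⟨r.1, r.2⟩
  have : Epi g := epi_of_etale_surjective hge hgs
  have : Epi j := epi_of_etale_surjective hje hjs
  have hub : u ≫ pullback.fst f a = b := by
    rw [← cancel_epi g, ← Category.assoc, hu', pullback.lift_fst, hgb]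
  let ε : V ≅ pullback f a := ⟨u, w,
    by rw [← cancel_epi g, ← Category.assoc, hu', hw, Category.comp_id],
    by rw [← cancel_epi j, ← Category.assoc, hw, hu', Category.comp_id]⟩
  refine ⟨_, a, u ≫ pullback.snd f a, hV', hae, ?_⟩
  exact (IsPullback.of_hasPullback f a).of_iso ε.symm (Iso.refl _) (Iso.refl _) (Iso.refl _)
    (by simp only [Iso.refl_hom, Category.comp_id, Iso.symm_hom, ← hub]; exact (ε.inv_hom_id_assoc _).symm)
    (by simp only [Iso.refl_hom, Category.comp_id, Iso.symm_hom]; exact (ε.inv_hom_id_assoc _).symm)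
    (by simp) (by simp)

end Groth.Agent.AlgSpTopInv
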