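import Groth.Agent.AlgSpLib.LargestOpen
import Groth.Agent.AlgSpLib.EtaleSmoothLocal
import Groth.Agent.AlgSpLib.OpenMor
import Groth.Agent.AlgSpPts.OpenSub
import Groth.Agent.AlgSpPts.Univ
import Groth.Agent.AlgSpDec.AffineRep
import Groth.Agent.S9939

/-!
# Sections of etale spaces along universal homeomorphisms
-/

set_option backward.isDefEq.respectTransparency false
set_option backward.isDefEq.respectTransparency.types false

universe u

open CategoryTheory CategoryTheory.Limits AlgebraicGeometry Opposite AlgSp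

namespace Groth.Agent.AlgSpTopInv

open Groth.Agent.AlgSpLib Groth.Agent.AlgSpPts

variable {S : Scheme.{u}}

/-- Integral, universally injective and surjective morphisms of schemes are universal homeomorphisms. -/
theorem isUnivHomeo_of_integral {X Y : Scheme.{u}} (f : X ⟶ Y) [IsIntegralHom f] [UniversallyInjective f]
    [Surjective f] : FlatMor.IsUnivHomeo f := by
  intro X' Y' i₁ i₂ f' sq
  have : IsIntegralHom f' := MorphismProperty.of_isPullback (P := @IsIntegralHom) sq.flip inferInstance
  have : UniversallyInjective f' := MorphismProperty.of_isPullback (P := @UniversallyInjective) sq.flip inferInstance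
  have : Surjective f' := MorphismProperty.of_isPullback (P := @Surjective) sq.flip inferInstance
  exact (isHomeomorph_iff_continuous_isClosedMap_bijective).2
    ⟨f'.continuous, f'.isClosedMap, f'.injective, f'.surjective⟩

/-- The standing hypotheses: a representable universal homeomorphism. -/
theorem repWith_isUnivHomeo {X Y : AlgSp.Space S} (f : X ⟶ Y) (h1 : IsIntegralMor f.hom)
    (h2 : IsUnivInjectiveMor f.hom) (h3 : IsSurjectiveMor f.hom) :
    RepWith FlatMor.IsUnivHomeo f.hom := by
  have hi := AlgSpDec.isIntegralMor_iff_repWith.1 h1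
  have hu : RepWith (@UniversallyInjective : MorphismProperty Scheme.{u}) f.hom := by
    have h := repWith_universally_of_univSp (P := fun _ _ g => Function.Injective g)
      (fun V U g hg => by
        rw [left_eq_conj]
        exact (Points.schemeHomeo U).symm.injective.comp (hg.comp (Points.schemeHomeo V).injective)) hi.rep h2
    exact repWith_mono (fun _ _ g hg => ⟨hg⟩) _ h
  have hs : RepWith (@Surjective : MorphismProperty Scheme.{u}) f.hom := repWith_surjective_of_surjective hi.rep h3
  exact ⟨hi.rep, fun U V g fst snd sq =>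
    have : IsIntegralHom snd.left := hi.property g fst snd sq
    have : UniversallyInjective snd.left := hu.property g fst snd sq
    have : Surjective snd.left := hs.property g fst snd sq
    isUnivHomeo_of_integral snd.left⟩

variable {T Z P : Sp S}

theorem isIso_of_etale_of_baseChange_isIso (hT : IsAlgSpace T) (hP : IsAlgSpace P) (hZ : IsAlgSpace Z)
    {c : Z ⟶ T} (hc : RepWith FlatMor.IsUnivHomeo c) (π : P ⟶ T) (hπ : LocP @Etale π)
    [IsIso (pullback.snd π c)] : IsIso π := by
  have sq := IsPullback.of_hasPullback π c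
  have hbij : Function.Surjective (Points.map π) := fun t => by
    obtain ⟨z, rfl⟩ := (isHomeomorph_map hc).surjective t
    refine ⟨Points.map (inv (pullback.snd π c) ≫ pullback.fst π c) z, ?_⟩
    rw [← Points.map_comp, Category.assoc, pullback.condition, IsIso.inv_hom_id_assoc]
  -- `π` is a monomorphism
  let Q := pullback π π
  have hQ : IsAlgSpace Q := isAlgSpace_pullback hP hP hT π π
  have sQ : IsPullback (pullback.fst π π) (pullback.snd π π) π π := IsPullback.of_hasPullback π π
  have hpe : LocP @Etale (pullback.snd π π) := locP_of_isPullback sQ hP hT hP hπ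
  have hde : LocP @Etale (pullback.diagonal π) := by
    have h := isEtaleMor_of_comp hP hQ hP (f := pullback.diagonal π) (g := pullback.snd π π)
      (by rw [pullback.diagonal_snd]; exact isEtaleMor_of_isIso (𝟙 P))
      ((isEtaleMor_iff_locP hQ hP _).2 hpe)
    exact locP_etale_of_isEtaleMor h
  have hds : Function.Surjective (Points.map (pullback.diagonal π)) := by
    intro q
    let cQ := pullback.snd π π ≫ π
    have hsq := IsPullback.of_hasPullback cQ c
    obtain ⟨w, hw⟩ := (isHomeomorph_map (repWith_fst cQ hc)).surjective q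
    have e : pullback.fst cQ c ≫ pullback.fst π π = pullback.fst cQ c ≫ pullback.snd π π := by
      let l₁ : pullback cQ c ⟶ pullback π c := pullback.lift (pullback.fst cQ c ≫ pullback.fst π π)
        (pullback.snd cQ c) (by rw [← pullback.condition, Category.assoc, pullback.condition])
      let l₂ : pullback cQ c ⟶ pullback π c := pullback.lift (pullback.fst cQ c ≫ pullback.snd π π)
        (pullback.snd cQ c) (by rw [← pullback.condition, Category.assoc])
      have : l₁ = l₂ := (cancel_mono (pullback.snd π c)).1 (by simp [l₁, l₂])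
      simpa [l₁, l₂] using congrArg (· ≫ pullback.fst π c) this
    refine ⟨Points.map (pullback.fst cQ c ≫ pullback.fst π π) w, ?_⟩
    rw [← Points.map_comp, ← hw]
    congr 1
    apply pullback.hom_ext <;> simp [e]
  have : IsIso (pullback.diagonal π) :=
    have : Mono (pullback.diagonal π) := mono_of_mono_fac (pullback.diagonal_fst π)
    isIso_of_mono_of_etale_surjective hP hQ _ hde hds
  have : Mono π := (pullback.isIso_diagonal_iff π).1 inferInstance
  exact isIso_of_mono_of_etale_surjective hP hT π hπ hbij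

/-- Sections of an etale space over a universal homeomorphism extend uniquely. -/
theorem existsUnique_section (hT : IsAlgSpace T) (hP : IsAlgSpace P) (hZ : IsAlgSpace Z)
    (π : P ⟶ T) (hπ : LocP @Etale π) (c : Z ⟶ T) (hc : RepWith FlatMor.IsUnivHomeo c)
    (k : Z ⟶ P) (hk : k ≫ π = c) : ∃! σ : T ⟶ P, σ ≫ π = 𝟙 T ∧ c ≫ σ = k := by
  let PZ := pullback π c
  have hPZ : IsAlgSpace PZ := isAlgSpace_pullback hP hZ hT π c
  let k' : Z ⟶ PZ := pullback.lift k (𝟙 Z) (by rw [hk, Category.id_comp])
  have hh : IsHomeomorph (Points.map (pullback.fst π c)) := isHomeomorph_map (repWith_fst π hc)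
  have hse : LocP @Etale (pullback.snd π c) := locP_of_isPullback (IsPullback.of_hasPullback π c) hP hT hZ hπ
  have hk'm : Mono k' := mono_of_mono_fac (pullback.lift_snd k (𝟙 Z) (by rw [hk, Category.id_comp]))
  have hk'e : LocP @Etale k' := locP_etale_of_isEtaleMor (isEtaleMor_of_comp hZ hPZ hZ
    (f := k') (g := pullback.snd π c) (by rw [pullback.lift_snd]; exact isEtaleMor_of_isIso (𝟙 Z))
    ((isEtaleMor_iff_locP hPZ hZ _).2 hse))
  have hopen : IsOpen (Set.range (Points.map k)) := by
    rw [show k = k' ≫ pullback.fst π c from (pullback.lift_fst _ _ _).symm]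
    have : Points.map (k' ≫ pullback.fst π c) = Points.map (pullback.fst π c) ∘ Points.map k' :=
      funext fun z => Points.map_comp _ _ _
    rw [this, Set.range_comp]
    refine hh.isOpenMap _ ?_
    exact (isOpenMap_map_of_fppf hZ hPZ k'
      (locP_mono (P := @Etale) (fun _ _ f (_ : Etale f) => inferInstanceAs (Flat f)) hk'e)
      (locP_mono (P := @Etale) (fun _ _ f (_ : Etale f) => inferInstanceAs (LocallyOfFinitePresentation f))
        hk'e)).isOpen_range
  obtain ⟨O, j, hO, hj, hjr⟩ := exists_open_subspace hP hopen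
  have := AlgSpDec.mono_of_openImmersion hj
  obtain ⟨k₀, hk₀⟩ := exists_lift_openImmersion hZ hO hP hj k hjr.ge
  have hje : LocP @Etale (j ≫ π) := locP_comp hO hP hT
    (locP_of_repWith (repWith_mono (P := @IsOpenImmersion) (Q := @Etale)
      (fun _ _ f (_ : IsOpenImmersion f) => inferInstanceAs (Etale f)) _ hj)) hπ
  have : IsIso (pullback.snd (j ≫ π) c) := by
    let PO := pullback (j ≫ π) c
    have hPO : IsAlgSpace PO := isAlgSpace_pullback hO hZ hT _ _
    let s : Z ⟶ PO := pullback.lift k₀ (𝟙 Z) (by rw [← Category.assoc, hk₀, hk, Category.id_comp])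
    have hs : s ≫ pullback.snd (j ≫ π) c = 𝟙 Z := pullback.lift_snd _ _ _
    have hsm : Mono s := mono_of_mono_fac hs
    have hse' : LocP @Etale s := locP_etale_of_isEtaleMor (isEtaleMor_of_comp hZ hPO hZ
      (f := s) (g := pullback.snd (j ≫ π) c) (by rw [hs]; exact isEtaleMor_of_isIso (𝟙 Z))
      ((isEtaleMor_iff_locP hPO hZ _).2
        (locP_of_isPullback (IsPullback.of_hasPullback (j ≫ π) c) hO hT hZ hje)))
    have hss : Function.Surjective (Points.map s) := by
      intro w
      have hinj : Function.Injective (Points.map (pullback.fst (j ≫ π) c)) :=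
        (isHomeomorph_map (repWith_fst (j ≫ π) hc)).injective
      obtain ⟨z, hz⟩ := hjr.le ⟨Points.map (pullback.fst (j ≫ π) c) w, rfl⟩
      refine ⟨z, hinj ?_⟩
      rw [← Points.map_comp, pullback.lift_fst]
      have hjinj : Function.Injective (Points.map j) :=
        injective_map (repWith_mono (fun _ _ f (_ : IsOpenImmersion f) => f.isOpenEmbedding.injective) _ hj)
      apply hjinj
      rw [← Points.map_comp, hk₀, hz]
    have : IsIso s := isIso_of_mono_of_etale_surjective hZ hPO s hse' hss
    rw [show pullback.snd (j ≫ π) c = inv s by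
      rw [← cancel_epi s, IsIso.hom_inv_id, hs]]
    infer_instance
  have : IsIso (j ≫ π) := isIso_of_etale_of_baseChange_isIso hT hO hZ hc (j ≫ π) hje
  refine ⟨inv (j ≫ π) ≫ j, ⟨by rw [Category.assoc, IsIso.inv_hom_id], ?_⟩, ?_⟩
  · have : c = k₀ ≫ j ≫ π := by rw [← Category.assoc, hk₀, hk]
    rw [this, Category.assoc, IsIso.hom_inv_id_assoc, hk₀]
  · rintro σ ⟨hσ₁, hσ₂⟩
    obtain ⟨σ₀, hσ₀⟩ := exists_lift_openImmersion hT hO hP hj σ (by
      rintro _ ⟨t, rfl⟩
      obtain ⟨z, rfl⟩ := (isHomeomorph_map hc).surjective t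
      rw [← Points.map_comp, hσ₂, hjr]
      exact ⟨z, rfl⟩)
    have : σ₀ = inv (j ≫ π) := by
      rw [← cancel_mono (j ≫ π), IsIso.inv_hom_id, ← Category.assoc, hσ₀, hσ₁]
    rw [← hσ₀, this]

/-- Morphisms between etale spaces descend uniquely along a universal homeomorphism of the base. -/
theorem existsUnique_hom {X Y V₁' V₂' V₁ V₂ : Sp S} (hX : IsAlgSpace X) (hY : IsAlgSpace Y)
    (hV₁' : IsAlgSpace V₁') (hV₂' : IsAlgSpace V₂') {f : X ⟶ Y} (hf : RepWith FlatMor.IsUnivHomeo f)
    (a₁ : V₁' ⟶ Y) (a₂ : V₂' ⟶ Y) (b₁ : V₁ ⟶ X) (b₂ : V₂ ⟶ X) (c₁ : V₁ ⟶ V₁') (c₂ : V₂ ⟶ V₂')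
    (ha₂ : LocP @Etale a₂) (sq₁ : IsPullback b₁ c₁ f a₁) (sq₂ : IsPullback b₂ c₂ f a₂)
    (φ : V₁ ⟶ V₂) (hφ : φ ≫ b₂ = b₁) : ∃! φ' : V₁' ⟶ V₂', φ' ≫ a₂ = a₁ ∧ c₁ ≫ φ' = φ ≫ c₂ := by
  have hV₁ : IsAlgSpace V₁ := isAlgSpace_of_isPullback sq₁ hX hV₁' hY
  have sq := IsPullback.of_hasPullback a₁ a₂
  have hP : IsAlgSpace (pullback a₁ a₂) := isAlgSpace_pullback hV₁' hV₂' hY a₁ a₂
  have w : c₁ ≫ a₁ = (φ ≫ c₂) ≫ a₂ := by rw [Category.assoc, ← sq₂.w, ← Category.assoc, hφ, sq₁.w]
  obtain ⟨σ, ⟨hσ₁, hσ₂⟩, hσ⟩ := existsUnique_section hV₁' hP hV₁ (pullback.fst a₁ a₂)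
    (locP_of_isPullback sq.flip hV₂' hY hV₁' ha₂) c₁ (repWith_of_isPullback sq₁ hf)
    (pullback.lift c₁ (φ ≫ c₂) w) (pullback.lift_fst _ _ _)
  refine ⟨σ ≫ pullback.snd a₁ a₂, ⟨?_, ?_⟩, fun ψ hψ => ?_⟩
  · rw [Category.assoc, ← pullback.condition, ← Category.assoc, hσ₁, Category.id_comp]
  · rw [← Category.assoc, hσ₂, pullback.lift_snd]
  · rw [← hσ (pullback.lift (𝟙 _) ψ (by rw [Category.id_comp, hψ.1]))
      ⟨pullback.lift_fst _ _ _, by apply pullback.hom_ext <;> simp [hψ.2]⟩, pullback.lift_snd]

end Groth.Agent.AlgSpTopInv
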